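import Cfsg.Agent.Helper28.J1A.Data
set_option autoImplicit false
set_option maxRecDepth 1000000
namespace Cfsg.Agent.Helper28.J1A
open Cfsg.Agent.Helper28
theorem fin_piece8 : allLtFrom (finRow tabs ptabs 62235) 20000 2500 = true := by decide +kernel
theorem fin_piece9 : allLtFrom (finRow tabs ptabs 62235) 22500 2500 = true := by decide +kernel
theorem fin_piece10 : allLtFrom (finRow tabs ptabs 62235) 25000 2500 = true := by decide +kernel
theorem fin_piece11 : allLtFrom (finRow tabs ptabs 62235) 27500 2500 = true := by decide +kernel
theorem fin_piece12 : allLtFrom (finRow tabs ptabs 62235) 30000 2500 = true := by decide +kernel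
theorem fin_piece13 : allLtFrom (finRow tabs ptabs 62235) 32500 2500 = true := by decide +kernel
theorem fin_piece14 : allLtFrom (finRow tabs ptabs 62235) 35000 2500 = true := by decide +kernel
theorem fin_piece15 : allLtFrom (finRow tabs ptabs 62235) 37500 2500 = true := by decide +kernel
end Cfsg.Agent.Helper28.J1A
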