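import Cfsg.Agent.Helper28.J1A.Data
set_option autoImplicit false
set_option maxRecDepth 1000000
namespace Cfsg.Agent.Helper28.J1A
open Cfsg.Agent.Helper28
theorem perm_piece_0_0 : permPieceF tabs.word letSel 1 5 0 44444 = true := by decide +kernel
theorem perm_piece_0_1 : permPieceF tabs.word letSel 1 5 44444 14076 = true := by decide +kernel
theorem perm_piece_1_0 : permPieceF tabs.word letSel 6 1 0 29629 = true := by decide +kernel
theorem perm_piece_1_1 : permPieceF tabs.word letSel 6 1 29629 28891 = true := by decide +kernel
theorem perm_piece_2_0 : permPieceF tabs.word letSel 7 1 0 6349 = true := by decide +kernel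
theorem perm_piece_2_1 : permPieceF tabs.word letSel 7 1 6349 6349 = true := by decide +kernel
theorem perm_piece_2_2 : permPieceF tabs.word letSel 7 1 12698 6349 = true := by decide +kernel
theorem perm_piece_2_3 : permPieceF tabs.word letSel 7 1 19047 6349 = true := by decide +kernel
theorem perm_piece_2_4 : permPieceF tabs.word letSel 7 1 25396 6349 = true := by decide +kernel
end Cfsg.Agent.Helper28.J1A
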