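import Cfsg.Agent.Helper28.J1A.Data
set_option autoImplicit false
set_option maxRecDepth 1000000
namespace Cfsg.Agent.Helper28.J1A
open Cfsg.Agent.Helper28
theorem perm_piece_2_5 : permPieceF tabs.word letSel 7 1 31745 6349 = true := by decide +kernel
theorem perm_piece_2_6 : permPieceF tabs.word letSel 7 1 38094 6349 = true := by decide +kernel
theorem perm_piece_2_7 : permPieceF tabs.word letSel 7 1 44443 6349 = true := by decide +kernel
theorem perm_piece_2_8 : permPieceF tabs.word letSel 7 1 50792 6349 = true := by decide +kernel
theorem perm_piece_2_9 : permPieceF tabs.word letSel 7 1 57141 1379 = true := by decide +kernel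
theorem perm_piece_3_0 : permPieceF tabs.word letSel 8 1 0 1269 = true := by decide +kernel
theorem perm_piece_3_1 : permPieceF tabs.word letSel 8 1 1269 1269 = true := by decide +kernel
theorem perm_piece_3_2 : permPieceF tabs.word letSel 8 1 2538 1269 = true := by decide +kernel
theorem perm_piece_3_3 : permPieceF tabs.word letSel 8 1 3807 1269 = true := by decide +kernel
end Cfsg.Agent.Helper28.J1A
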