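import Cfsg.Agent.Helper28.J1A.Data
set_option autoImplicit false
set_option maxRecDepth 1000000
namespace Cfsg.Agent.Helper28.J1A
open Cfsg.Agent.Helper28
theorem perm_piece_4_22 : permPieceF tabs.word letSel 9 1 28754 1307 = true := by decide +kernel
theorem perm_piece_4_23 : permPieceF tabs.word letSel 9 1 30061 1307 = true := by decide +kernel
theorem perm_piece_4_24 : permPieceF tabs.word letSel 9 1 31368 1307 = true := by decide +kernel
theorem perm_piece_4_25 : permPieceF tabs.word letSel 9 1 32675 1307 = true := by decide +kernel
theorem perm_piece_4_26 : permPieceF tabs.word letSel 9 1 33982 1307 = true := by decide +kernel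
theorem perm_piece_4_27 : permPieceF tabs.word letSel 9 1 35289 1307 = true := by decide +kernel
theorem perm_piece_4_28 : permPieceF tabs.word letSel 9 1 36596 1307 = true := by decide +kernel
theorem perm_piece_4_29 : permPieceF tabs.word letSel 9 1 37903 1307 = true := by decide +kernel
end Cfsg.Agent.Helper28.J1A
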