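import Cfsg.Agent.Helper28.J1A.Data
set_option autoImplicit false
set_option maxRecDepth 1000000
namespace Cfsg.Agent.Helper28.J1A
open Cfsg.Agent.Helper28
theorem perm_piece_4_30 : permPieceF tabs.word letSel 9 1 39210 1307 = true := by decide +kernel
theorem perm_piece_4_31 : permPieceF tabs.word letSel 9 1 40517 1307 = true := by decide +kernel
theorem perm_piece_4_32 : permPieceF tabs.word letSel 9 1 41824 1307 = true := by decide +kernel
theorem perm_piece_4_33 : permPieceF tabs.word letSel 9 1 43131 1307 = true := by decide +kernel
theorem perm_piece_4_34 : permPieceF tabs.word letSel 9 1 44438 1307 = true := by decide +kernel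
theorem perm_piece_4_35 : permPieceF tabs.word letSel 9 1 45745 1307 = true := by decide +kernel
theorem perm_piece_4_36 : permPieceF tabs.word letSel 9 1 47052 1307 = true := by decide +kernel
theorem perm_piece_4_37 : permPieceF tabs.word letSel 9 1 48359 1307 = true := by decide +kernel
end Cfsg.Agent.Helper28.J1A
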