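import Cfsg.Agent.Helper28.J1A.Data
set_option autoImplicit false
set_option maxRecDepth 1000000
namespace Cfsg.Agent.Helper28.J1A
open Cfsg.Agent.Helper28
theorem perm_piece_4_38 : permPieceF tabs.word letSel 9 1 49666 1307 = true := by decide +kernel
theorem perm_piece_4_39 : permPieceF tabs.word letSel 9 1 50973 1307 = true := by decide +kernel
theorem perm_piece_4_40 : permPieceF tabs.word letSel 9 1 52280 1307 = true := by decide +kernel
theorem perm_piece_4_41 : permPieceF tabs.word letSel 9 1 53587 1307 = true := by decide +kernel
theorem perm_piece_4_42 : permPieceF tabs.word letSel 9 1 54894 1307 = true := by decide +kernel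
theorem perm_piece_4_43 : permPieceF tabs.word letSel 9 1 56201 1307 = true := by decide +kernel
theorem perm_piece_4_44 : permPieceF tabs.word letSel 9 1 57508 1012 = true := by decide +kernel
end Cfsg.Agent.Helper28.J1A
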