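import Cfsg.Agent.Helper28.J1A.Data
set_option autoImplicit false
set_option maxRecDepth 1000000
namespace Cfsg.Agent.Helper28.J1A
open Cfsg.Agent.Helper28
theorem perm_piece_3_4 : permPieceF tabs.word letSel 8 1 5076 1269 = true := by decide +kernel
theorem perm_piece_3_5 : permPieceF tabs.word letSel 8 1 6345 1269 = true := by decide +kernel
theorem perm_piece_3_6 : permPieceF tabs.word letSel 8 1 7614 1269 = true := by decide +kernel
theorem perm_piece_3_7 : permPieceF tabs.word letSel 8 1 8883 1269 = true := by decide +kernel
theorem perm_piece_3_8 : permPieceF tabs.word letSel 8 1 10152 1269 = true := by decide +kernel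
theorem perm_piece_3_9 : permPieceF tabs.word letSel 8 1 11421 1269 = true := by decide +kernel
theorem perm_piece_3_10 : permPieceF tabs.word letSel 8 1 12690 1269 = true := by decide +kernel
theorem perm_piece_3_11 : permPieceF tabs.word letSel 8 1 13959 1269 = true := by decide +kernel
end Cfsg.Agent.Helper28.J1A
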