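import Cfsg.Agent.Helper28.J1A.Data
set_option autoImplicit false
set_option maxRecDepth 1000000
namespace Cfsg.Agent.Helper28.J1A
open Cfsg.Agent.Helper28
theorem perm_piece_3_12 : permPieceF tabs.word letSel 8 1 15228 1269 = true := by decide +kernel
theorem perm_piece_3_13 : permPieceF tabs.word letSel 8 1 16497 1269 = true := by decide +kernel
theorem perm_piece_3_14 : permPieceF tabs.word letSel 8 1 17766 1269 = true := by decide +kernel
theorem perm_piece_3_15 : permPieceF tabs.word letSel 8 1 19035 1269 = true := by decide +kernel
theorem perm_piece_3_16 : permPieceF tabs.word letSel 8 1 20304 1269 = true := by decide +kernel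
theorem perm_piece_3_17 : permPieceF tabs.word letSel 8 1 21573 1269 = true := by decide +kernel
theorem perm_piece_3_18 : permPieceF tabs.word letSel 8 1 22842 1269 = true := by decide +kernel
theorem perm_piece_3_19 : permPieceF tabs.word letSel 8 1 24111 1269 = true := by decide +kernel
end Cfsg.Agent.Helper28.J1A
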