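import Cfsg.Agent.Helper28.J1A.Data
set_option autoImplicit false
set_option maxRecDepth 1000000
namespace Cfsg.Agent.Helper28.J1A
open Cfsg.Agent.Helper28
theorem perm_piece_3_20 : permPieceF tabs.word letSel 8 1 25380 1269 = true := by decide +kernel
theorem perm_piece_3_21 : permPieceF tabs.word letSel 8 1 26649 1269 = true := by decide +kernel
theorem perm_piece_3_22 : permPieceF tabs.word letSel 8 1 27918 1269 = true := by decide +kernel
theorem perm_piece_3_23 : permPieceF tabs.word letSel 8 1 29187 1269 = true := by decide +kernel
theorem perm_piece_3_24 : permPieceF tabs.word letSel 8 1 30456 1269 = true := by decide +kernel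
theorem perm_piece_3_25 : permPieceF tabs.word letSel 8 1 31725 1269 = true := by decide +kernel
theorem perm_piece_3_26 : permPieceF tabs.word letSel 8 1 32994 1269 = true := by decide +kernel
theorem perm_piece_3_27 : permPieceF tabs.word letSel 8 1 34263 1269 = true := by decide +kernel
end Cfsg.Agent.Helper28.J1A
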