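import Cfsg.Agent.Helper28.J1A.Data
set_option autoImplicit false
set_option maxRecDepth 1000000
namespace Cfsg.Agent.Helper28.J1A
open Cfsg.Agent.Helper28
theorem perm_piece_3_28 : permPieceF tabs.word letSel 8 1 35532 1269 = true := by decide +kernel
theorem perm_piece_3_29 : permPieceF tabs.word letSel 8 1 36801 1269 = true := by decide +kernel
theorem perm_piece_3_30 : permPieceF tabs.word letSel 8 1 38070 1269 = true := by decide +kernel
theorem perm_piece_3_31 : permPieceF tabs.word letSel 8 1 39339 1269 = true := by decide +kernel
theorem perm_piece_3_32 : permPieceF tabs.word letSel 8 1 40608 1269 = true := by decide +kernel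
theorem perm_piece_3_33 : permPieceF tabs.word letSel 8 1 41877 1269 = true := by decide +kernel
theorem perm_piece_3_34 : permPieceF tabs.word letSel 8 1 43146 1269 = true := by decide +kernel
theorem perm_piece_3_35 : permPieceF tabs.word letSel 8 1 44415 1269 = true := by decide +kernel
end Cfsg.Agent.Helper28.J1A
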