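import Cfsg.Agent.Helper28.J1A.Data
set_option autoImplicit false
set_option maxRecDepth 1000000
namespace Cfsg.Agent.Helper28.J1A
open Cfsg.Agent.Helper28
theorem perm_piece_3_36 : permPieceF tabs.word letSel 8 1 45684 1269 = true := by decide +kernel
theorem perm_piece_3_37 : permPieceF tabs.word letSel 8 1 46953 1269 = true := by decide +kernel
theorem perm_piece_3_38 : permPieceF tabs.word letSel 8 1 48222 1269 = true := by decide +kernel
theorem perm_piece_3_39 : permPieceF tabs.word letSel 8 1 49491 1269 = true := by decide +kernel
theorem perm_piece_3_40 : permPieceF tabs.word letSel 8 1 50760 1269 = true := by decide +kernel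
theorem perm_piece_3_41 : permPieceF tabs.word letSel 8 1 52029 1269 = true := by decide +kernel
theorem perm_piece_3_42 : permPieceF tabs.word letSel 8 1 53298 1269 = true := by decide +kernel
theorem perm_piece_3_43 : permPieceF tabs.word letSel 8 1 54567 1269 = true := by decide +kernel
end Cfsg.Agent.Helper28.J1A
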