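import Cfsg.Agent.Helper28.J1A.Data
set_option autoImplicit false
set_option maxRecDepth 1000000
namespace Cfsg.Agent.Helper28.J1A
open Cfsg.Agent.Helper28
theorem perm_piece_4_6 : permPieceF tabs.word letSel 9 1 7842 1307 = true := by decide +kernel
theorem perm_piece_4_7 : permPieceF tabs.word letSel 9 1 9149 1307 = true := by decide +kernel
theorem perm_piece_4_8 : permPieceF tabs.word letSel 9 1 10456 1307 = true := by decide +kernel
theorem perm_piece_4_9 : permPieceF tabs.word letSel 9 1 11763 1307 = true := by decide +kernel
theorem perm_piece_4_10 : permPieceF tabs.word letSel 9 1 13070 1307 = true := by decide +kernel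
theorem perm_piece_4_11 : permPieceF tabs.word letSel 9 1 14377 1307 = true := by decide +kernel
theorem perm_piece_4_12 : permPieceF tabs.word letSel 9 1 15684 1307 = true := by decide +kernel
theorem perm_piece_4_13 : permPieceF tabs.word letSel 9 1 16991 1307 = true := by decide +kernel
end Cfsg.Agent.Helper28.J1A
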