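import Cfsg.Agent.Helper28.J1A.Data
set_option autoImplicit false
set_option maxRecDepth 1000000
namespace Cfsg.Agent.Helper28.J1A
open Cfsg.Agent.Helper28
theorem perm_piece_4_14 : permPieceF tabs.word letSel 9 1 18298 1307 = true := by decide +kernel
theorem perm_piece_4_15 : permPieceF tabs.word letSel 9 1 19605 1307 = true := by decide +kernel
theorem perm_piece_4_16 : permPieceF tabs.word letSel 9 1 20912 1307 = true := by decide +kernel
theorem perm_piece_4_17 : permPieceF tabs.word letSel 9 1 22219 1307 = true := by decide +kernel
theorem perm_piece_4_18 : permPieceF tabs.word letSel 9 1 23526 1307 = true := by decide +kernel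
theorem perm_piece_4_19 : permPieceF tabs.word letSel 9 1 24833 1307 = true := by decide +kernel
theorem perm_piece_4_20 : permPieceF tabs.word letSel 9 1 26140 1307 = true := by decide +kernel
theorem perm_piece_4_21 : permPieceF tabs.word letSel 9 1 27447 1307 = true := by decide +kernel
end Cfsg.Agent.Helper28.J1A
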