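import Cfsg.Agent.Helper28.J1A.F0
import Cfsg.Agent.Helper28.J1A.F1
import Cfsg.Agent.Helper28.J1A.Fin0
import Cfsg.Agent.Helper28.J1A.Fin1
import Cfsg.Agent.Helper28.J1A.Fin2
import Cfsg.Agent.Helper28.J1A.Inv0
import Cfsg.Agent.Helper28.J1A.Misc0
import Cfsg.Agent.Helper28.J1A.P0
import Cfsg.Agent.Helper28.J1A.P1
import Cfsg.Agent.Helper28.J1A.P2
import Cfsg.Agent.Helper28.J1A.P3
import Cfsg.Agent.Helper28.J1A.P4
import Cfsg.Agent.Helper28.J1A.P5
import Cfsg.Agent.Helper28.J1A.P6
import Cfsg.Agent.Helper28.J1A.P7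
import Cfsg.Agent.Helper28.J1A.P8
import Cfsg.Agent.Helper28.J1A.P9
import Cfsg.Agent.Helper28.J1A.P10
import Cfsg.Agent.Helper28.J1A.P11
import Cfsg.Agent.Helper28.J1A.P12
set_option autoImplicit false
namespace Cfsg.Agent.Helper28.J1A
open Cfsg.Agent.Helper28
theorem fin_upto0 : allLt (finRow tabs ptabs 62235) 2500 = true :=
  allLt_extend _ 0 2500 2500 rfl (allLt_zero _) fin_piece0
theorem fin_upto1 : allLt (finRow tabs ptabs 62235) 5000 = true :=
  allLt_extend _ 2500 2500 5000 rfl fin_upto0 fin_piece1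
theorem fin_upto2 : allLt (finRow tabs ptabs 62235) 7500 = true :=
  allLt_extend _ 5000 2500 7500 rfl fin_upto1 fin_piece2
theorem fin_upto3 : allLt (finRow tabs ptabs 62235) 10000 = true :=
  allLt_extend _ 7500 2500 10000 rfl fin_upto2 fin_piece3
theorem fin_upto4 : allLt (finRow tabs ptabs 62235) 12500 = true :=
  allLt_extend _ 10000 2500 12500 rfl fin_upto3 fin_piece4
theorem fin_upto5 : allLt (finRow tabs ptabs 62235) 15000 = true :=
  allLt_extend _ 12500 2500 15000 rfl fin_upto4 fin_piece5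
theorem fin_upto6 : allLt (finRow tabs ptabs 62235) 17500 = true :=
  allLt_extend _ 15000 2500 17500 rfl fin_upto5 fin_piece6
theorem fin_upto7 : allLt (finRow tabs ptabs 62235) 20000 = true :=
  allLt_extend _ 17500 2500 20000 rfl fin_upto6 fin_piece7
theorem fin_upto8 : allLt (finRow tabs ptabs 62235) 22500 = true :=
  allLt_extend _ 20000 2500 22500 rfl fin_upto7 fin_piece8
theorem fin_upto9 : allLt (finRow tabs ptabs 62235) 25000 = true :=
  allLt_extend _ 22500 2500 25000 rfl fin_upto8 fin_piece9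
theorem fin_upto10 : allLt (finRow tabs ptabs 62235) 27500 = true :=
  allLt_extend _ 25000 2500 27500 rfl fin_upto9 fin_piece10
theorem fin_upto11 : allLt (finRow tabs ptabs 62235) 30000 = true :=
  allLt_extend _ 27500 2500 30000 rfl fin_upto10 fin_piece11
theorem fin_upto12 : allLt (finRow tabs ptabs 62235) 32500 = true :=
  allLt_extend _ 30000 2500 32500 rfl fin_upto11 fin_piece12
theorem fin_upto13 : allLt (finRow tabs ptabs 62235) 35000 = true :=
  allLt_extend _ 32500 2500 35000 rfl fin_upto12 fin_piece13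
theorem fin_upto14 : allLt (finRow tabs ptabs 62235) 37500 = true :=
  allLt_extend _ 35000 2500 37500 rfl fin_upto13 fin_piece14
theorem fin_upto15 : allLt (finRow tabs ptabs 62235) 40000 = true :=
  allLt_extend _ 37500 2500 40000 rfl fin_upto14 fin_piece15
theorem fin_upto16 : allLt (finRow tabs ptabs 62235) 42500 = true :=
  allLt_extend _ 40000 2500 42500 rfl fin_upto15 fin_piece16
theorem fin_upto17 : allLt (finRow tabs ptabs 62235) 45000 = true :=
  allLt_extend _ 42500 2500 45000 rfl fin_upto16 fin_piece17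
theorem fin_upto18 : allLt (finRow tabs ptabs 62235) 47500 = true :=
  allLt_extend _ 45000 2500 47500 rfl fin_upto17 fin_piece18
theorem fin_upto19 : allLt (finRow tabs ptabs 62235) 50000 = true :=
  allLt_extend _ 47500 2500 50000 rfl fin_upto18 fin_piece19
theorem fin_upto20 : allLt (finRow tabs ptabs 62235) 52500 = true :=
  allLt_extend _ 50000 2500 52500 rfl fin_upto19 fin_piece20
theorem fin_upto21 : allLt (finRow tabs ptabs 62235) 55000 = true :=
  allLt_extend _ 52500 2500 55000 rfl fin_upto20 fin_piece21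
theorem fin_upto22 : allLt (finRow tabs ptabs 62235) 57500 = true :=
  allLt_extend _ 55000 2500 57500 rfl fin_upto21 fin_piece22
theorem fin_upto23 : allLt (finRow tabs ptabs 62235) 58520 = true :=
  allLt_extend _ 57500 1020 58520 rfl fin_upto22 fin_piece23
theorem fin_ok : checkFin tabs ptabs 62235 = true := (checkFin_eq tabs ptabs 62235).trans fin_upto23
theorem inv_upto0 : allLt (invRow ptabs) 10000 = true :=
  allLt_extend _ 0 10000 10000 rfl (allLt_zero _) inv_piece0
theorem inv_upto1 : allLt (invRow ptabs) 20000 = true :=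
  allLt_extend _ 10000 10000 20000 rfl inv_upto0 inv_piece1
theorem inv_upto2 : allLt (invRow ptabs) 30000 = true :=
  allLt_extend _ 20000 10000 30000 rfl inv_upto1 inv_piece2
theorem inv_upto3 : allLt (invRow ptabs) 40000 = true :=
  allLt_extend _ 30000 10000 40000 rfl inv_upto2 inv_piece3
theorem inv_upto4 : allLt (invRow ptabs) 50000 = true :=
  allLt_extend _ 40000 10000 50000 rfl inv_upto3 inv_piece4
theorem inv_upto5 : allLt (invRow ptabs) 58520 = true :=
  allLt_extend _ 50000 8520 58520 rfl inv_upto4 inv_piece5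
theorem inv_ok : invOk ptabs = true := (invOk_eq ptabs).trans inv_upto5
theorem defs_upto0 : allLt (defOk tabs) 60048 = true :=
  allLt_extend _ 0 60048 60048 rfl (allLt_zero _) defs_piece0
theorem defs_ok : checkDefs tabs = true := (checkDefs_eq tabs).trans defs_upto0
theorem par_upto0 : allLt (parRow ptabs) 53333 = true :=
  allLt_extend _ 0 53333 53333 rfl (allLt_zero _) par_piece0
theorem par_upto1 : allLt (parRow ptabs) 58520 = true :=
  allLt_extend _ 53333 5187 58520 rfl par_upto0 par_piece1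
theorem par_ok : parOk ptabs = true := (parOk_eq ptabs).trans par_upto1
theorem perm_g0_upto0 : TraceFix ptabs.perm tabs.word 1 5 44444 :=
  traceFix_extendF _ _ letSel perm_eq 1 5 0 44444 44444 rfl (traceFix_zero _ _ 1 5) perm_piece_0_0
theorem perm_g0_upto1 : TraceFix ptabs.perm tabs.word 1 5 58520 :=
  traceFix_extendF _ _ letSel perm_eq 1 5 44444 14076 58520 rfl perm_g0_upto0 perm_piece_0_1
theorem perm_g0 : ∀ r, 1 ≤ r → r < 1 + 5 → relOk ptabs (tabs.word r) 0 ptabs.n = true :=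
  relOk_of_traceFix ptabs tabs.word 1 5 perm_g0_upto1
theorem perm_g1_upto0 : TraceFix ptabs.perm tabs.word 6 1 29629 :=
  traceFix_extendF _ _ letSel perm_eq 6 1 0 29629 29629 rfl (traceFix_zero _ _ 6 1) perm_piece_1_0
theorem perm_g1_upto1 : TraceFix ptabs.perm tabs.word 6 1 58520 :=
  traceFix_extendF _ _ letSel perm_eq 6 1 29629 28891 58520 rfl perm_g1_upto0 perm_piece_1_1
theorem perm_g1 : ∀ r, 6 ≤ r → r < 6 + 1 → relOk ptabs (tabs.word r) 0 ptabs.n = true :=
  relOk_of_traceFix ptabs tabs.word 6 1 perm_g1_upto1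
theorem perm_g2_upto0 : TraceFix ptabs.perm tabs.word 7 1 6349 :=
  traceFix_extendF _ _ letSel perm_eq 7 1 0 6349 6349 rfl (traceFix_zero _ _ 7 1) perm_piece_2_0
theorem perm_g2_upto1 : TraceFix ptabs.perm tabs.word 7 1 12698 :=
  traceFix_extendF _ _ letSel perm_eq 7 1 6349 6349 12698 rfl perm_g2_upto0 perm_piece_2_1
theorem perm_g2_upto2 : TraceFix ptabs.perm tabs.word 7 1 19047 :=
  traceFix_extendF _ _ letSel perm_eq 7 1 12698 6349 19047 rfl perm_g2_upto1 perm_piece_2_2
theorem perm_g2_upto3 : TraceFix ptabs.perm tabs.word 7 1 25396 :=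
  traceFix_extendF _ _ letSel perm_eq 7 1 19047 6349 25396 rfl perm_g2_upto2 perm_piece_2_3
theorem perm_g2_upto4 : TraceFix ptabs.perm tabs.word 7 1 31745 :=
  traceFix_extendF _ _ letSel perm_eq 7 1 25396 6349 31745 rfl perm_g2_upto3 perm_piece_2_4
theorem perm_g2_upto5 : TraceFix ptabs.perm tabs.word 7 1 38094 :=
  traceFix_extendF _ _ letSel perm_eq 7 1 31745 6349 38094 rfl perm_g2_upto4 perm_piece_2_5
theorem perm_g2_upto6 : TraceFix ptabs.perm tabs.word 7 1 44443 :=
  traceFix_extendF _ _ letSel perm_eq 7 1 38094 6349 44443 rfl perm_g2_upto5 perm_piece_2_6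
theorem perm_g2_upto7 : TraceFix ptabs.perm tabs.word 7 1 50792 :=
  traceFix_extendF _ _ letSel perm_eq 7 1 44443 6349 50792 rfl perm_g2_upto6 perm_piece_2_7
theorem perm_g2_upto8 : TraceFix ptabs.perm tabs.word 7 1 57141 :=
  traceFix_extendF _ _ letSel perm_eq 7 1 50792 6349 57141 rfl perm_g2_upto7 perm_piece_2_8
theorem perm_g2_upto9 : TraceFix ptabs.perm tabs.word 7 1 58520 :=
  traceFix_extendF _ _ letSel perm_eq 7 1 57141 1379 58520 rfl perm_g2_upto8 perm_piece_2_9
theorem perm_g2 : ∀ r, 7 ≤ r → r < 7 + 1 → relOk ptabs (tabs.word r) 0 ptabs.n = true :=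
  relOk_of_traceFix ptabs tabs.word 7 1 perm_g2_upto9
theorem perm_g3_upto0 : TraceFix ptabs.perm tabs.word 8 1 1269 :=
  traceFix_extendF _ _ letSel perm_eq 8 1 0 1269 1269 rfl (traceFix_zero _ _ 8 1) perm_piece_3_0
theorem perm_g3_upto1 : TraceFix ptabs.perm tabs.word 8 1 2538 :=
  traceFix_extendF _ _ letSel perm_eq 8 1 1269 1269 2538 rfl perm_g3_upto0 perm_piece_3_1
theorem perm_g3_upto2 : TraceFix ptabs.perm tabs.word 8 1 3807 :=
  traceFix_extendF _ _ letSel perm_eq 8 1 2538 1269 3807 rfl perm_g3_upto1 perm_piece_3_2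
theorem perm_g3_upto3 : TraceFix ptabs.perm tabs.word 8 1 5076 :=
  traceFix_extendF _ _ letSel perm_eq 8 1 3807 1269 5076 rfl perm_g3_upto2 perm_piece_3_3
theorem perm_g3_upto4 : TraceFix ptabs.perm tabs.word 8 1 6345 :=
  traceFix_extendF _ _ letSel perm_eq 8 1 5076 1269 6345 rfl perm_g3_upto3 perm_piece_3_4
theorem perm_g3_upto5 : TraceFix ptabs.perm tabs.word 8 1 7614 :=
  traceFix_extendF _ _ letSel perm_eq 8 1 6345 1269 7614 rfl perm_g3_upto4 perm_piece_3_5
theorem perm_g3_upto6 : TraceFix ptabs.perm tabs.word 8 1 8883 :=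
  traceFix_extendF _ _ letSel perm_eq 8 1 7614 1269 8883 rfl perm_g3_upto5 perm_piece_3_6
theorem perm_g3_upto7 : TraceFix ptabs.perm tabs.word 8 1 10152 :=
  traceFix_extendF _ _ letSel perm_eq 8 1 8883 1269 10152 rfl perm_g3_upto6 perm_piece_3_7
theorem perm_g3_upto8 : TraceFix ptabs.perm tabs.word 8 1 11421 :=
  traceFix_extendF _ _ letSel perm_eq 8 1 10152 1269 11421 rfl perm_g3_upto7 perm_piece_3_8
theorem perm_g3_upto9 : TraceFix ptabs.perm tabs.word 8 1 12690 :=
  traceFix_extendF _ _ letSel perm_eq 8 1 11421 1269 12690 rfl perm_g3_upto8 perm_piece_3_9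
theorem perm_g3_upto10 : TraceFix ptabs.perm tabs.word 8 1 13959 :=
  traceFix_extendF _ _ letSel perm_eq 8 1 12690 1269 13959 rfl perm_g3_upto9 perm_piece_3_10
theorem perm_g3_upto11 : TraceFix ptabs.perm tabs.word 8 1 15228 :=
  traceFix_extendF _ _ letSel perm_eq 8 1 13959 1269 15228 rfl perm_g3_upto10 perm_piece_3_11
theorem perm_g3_upto12 : TraceFix ptabs.perm tabs.word 8 1 16497 :=
  traceFix_extendF _ _ letSel perm_eq 8 1 15228 1269 16497 rfl perm_g3_upto11 perm_piece_3_12
theorem perm_g3_upto13 : TraceFix ptabs.perm tabs.word 8 1 17766 :=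
  traceFix_extendF _ _ letSel perm_eq 8 1 16497 1269 17766 rfl perm_g3_upto12 perm_piece_3_13
theorem perm_g3_upto14 : TraceFix ptabs.perm tabs.word 8 1 19035 :=
  traceFix_extendF _ _ letSel perm_eq 8 1 17766 1269 19035 rfl perm_g3_upto13 perm_piece_3_14
theorem perm_g3_upto15 : TraceFix ptabs.perm tabs.word 8 1 20304 :=
  traceFix_extendF _ _ letSel perm_eq 8 1 19035 1269 20304 rfl perm_g3_upto14 perm_piece_3_15
theorem perm_g3_upto16 : TraceFix ptabs.perm tabs.word 8 1 21573 :=
  traceFix_extendF _ _ letSel perm_eq 8 1 20304 1269 21573 rfl perm_g3_upto15 perm_piece_3_16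
theorem perm_g3_upto17 : TraceFix ptabs.perm tabs.word 8 1 22842 :=
  traceFix_extendF _ _ letSel perm_eq 8 1 21573 1269 22842 rfl perm_g3_upto16 perm_piece_3_17
theorem perm_g3_upto18 : TraceFix ptabs.perm tabs.word 8 1 24111 :=
  traceFix_extendF _ _ letSel perm_eq 8 1 22842 1269 24111 rfl perm_g3_upto17 perm_piece_3_18
theorem perm_g3_upto19 : TraceFix ptabs.perm tabs.word 8 1 25380 :=
  traceFix_extendF _ _ letSel perm_eq 8 1 24111 1269 25380 rfl perm_g3_upto18 perm_piece_3_19
theorem perm_g3_upto20 : TraceFix ptabs.perm tabs.word 8 1 26649 :=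
  traceFix_extendF _ _ letSel perm_eq 8 1 25380 1269 26649 rfl perm_g3_upto19 perm_piece_3_20
theorem perm_g3_upto21 : TraceFix ptabs.perm tabs.word 8 1 27918 :=
  traceFix_extendF _ _ letSel perm_eq 8 1 26649 1269 27918 rfl perm_g3_upto20 perm_piece_3_21
theorem perm_g3_upto22 : TraceFix ptabs.perm tabs.word 8 1 29187 :=
  traceFix_extendF _ _ letSel perm_eq 8 1 27918 1269 29187 rfl perm_g3_upto21 perm_piece_3_22
theorem perm_g3_upto23 : TraceFix ptabs.perm tabs.word 8 1 30456 :=
  traceFix_extendF _ _ letSel perm_eq 8 1 29187 1269 30456 rfl perm_g3_upto22 perm_piece_3_23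
theorem perm_g3_upto24 : TraceFix ptabs.perm tabs.word 8 1 31725 :=
  traceFix_extendF _ _ letSel perm_eq 8 1 30456 1269 31725 rfl perm_g3_upto23 perm_piece_3_24
theorem perm_g3_upto25 : TraceFix ptabs.perm tabs.word 8 1 32994 :=
  traceFix_extendF _ _ letSel perm_eq 8 1 31725 1269 32994 rfl perm_g3_upto24 perm_piece_3_25
theorem perm_g3_upto26 : TraceFix ptabs.perm tabs.word 8 1 34263 :=
  traceFix_extendF _ _ letSel perm_eq 8 1 32994 1269 34263 rfl perm_g3_upto25 perm_piece_3_26
theorem perm_g3_upto27 : TraceFix ptabs.perm tabs.word 8 1 35532 :=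
  traceFix_extendF _ _ letSel perm_eq 8 1 34263 1269 35532 rfl perm_g3_upto26 perm_piece_3_27
theorem perm_g3_upto28 : TraceFix ptabs.perm tabs.word 8 1 36801 :=
  traceFix_extendF _ _ letSel perm_eq 8 1 35532 1269 36801 rfl perm_g3_upto27 perm_piece_3_28
theorem perm_g3_upto29 : TraceFix ptabs.perm tabs.word 8 1 38070 :=
  traceFix_extendF _ _ letSel perm_eq 8 1 36801 1269 38070 rfl perm_g3_upto28 perm_piece_3_29
theorem perm_g3_upto30 : TraceFix ptabs.perm tabs.word 8 1 39339 :=
  traceFix_extendF _ _ letSel perm_eq 8 1 38070 1269 39339 rfl perm_g3_upto29 perm_piece_3_30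
theorem perm_g3_upto31 : TraceFix ptabs.perm tabs.word 8 1 40608 :=
  traceFix_extendF _ _ letSel perm_eq 8 1 39339 1269 40608 rfl perm_g3_upto30 perm_piece_3_31
theorem perm_g3_upto32 : TraceFix ptabs.perm tabs.word 8 1 41877 :=
  traceFix_extendF _ _ letSel perm_eq 8 1 40608 1269 41877 rfl perm_g3_upto31 perm_piece_3_32
theorem perm_g3_upto33 : TraceFix ptabs.perm tabs.word 8 1 43146 :=
  traceFix_extendF _ _ letSel perm_eq 8 1 41877 1269 43146 rfl perm_g3_upto32 perm_piece_3_33
theorem perm_g3_upto34 : TraceFix ptabs.perm tabs.word 8 1 44415 :=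
  traceFix_extendF _ _ letSel perm_eq 8 1 43146 1269 44415 rfl perm_g3_upto33 perm_piece_3_34
theorem perm_g3_upto35 : TraceFix ptabs.perm tabs.word 8 1 45684 :=
  traceFix_extendF _ _ letSel perm_eq 8 1 44415 1269 45684 rfl perm_g3_upto34 perm_piece_3_35
theorem perm_g3_upto36 : TraceFix ptabs.perm tabs.word 8 1 46953 :=
  traceFix_extendF _ _ letSel perm_eq 8 1 45684 1269 46953 rfl perm_g3_upto35 perm_piece_3_36
theorem perm_g3_upto37 : TraceFix ptabs.perm tabs.word 8 1 48222 :=
  traceFix_extendF _ _ letSel perm_eq 8 1 46953 1269 48222 rfl perm_g3_upto36 perm_piece_3_37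
theorem perm_g3_upto38 : TraceFix ptabs.perm tabs.word 8 1 49491 :=
  traceFix_extendF _ _ letSel perm_eq 8 1 48222 1269 49491 rfl perm_g3_upto37 perm_piece_3_38
theorem perm_g3_upto39 : TraceFix ptabs.perm tabs.word 8 1 50760 :=
  traceFix_extendF _ _ letSel perm_eq 8 1 49491 1269 50760 rfl perm_g3_upto38 perm_piece_3_39
theorem perm_g3_upto40 : TraceFix ptabs.perm tabs.word 8 1 52029 :=
  traceFix_extendF _ _ letSel perm_eq 8 1 50760 1269 52029 rfl perm_g3_upto39 perm_piece_3_40
theorem perm_g3_upto41 : TraceFix ptabs.perm tabs.word 8 1 53298 :=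
  traceFix_extendF _ _ letSel perm_eq 8 1 52029 1269 53298 rfl perm_g3_upto40 perm_piece_3_41
theorem perm_g3_upto42 : TraceFix ptabs.perm tabs.word 8 1 54567 :=
  traceFix_extendF _ _ letSel perm_eq 8 1 53298 1269 54567 rfl perm_g3_upto41 perm_piece_3_42
theorem perm_g3_upto43 : TraceFix ptabs.perm tabs.word 8 1 55836 :=
  traceFix_extendF _ _ letSel perm_eq 8 1 54567 1269 55836 rfl perm_g3_upto42 perm_piece_3_43
theorem perm_g3_upto44 : TraceFix ptabs.perm tabs.word 8 1 57105 :=
  traceFix_extendF _ _ letSel perm_eq 8 1 55836 1269 57105 rfl perm_g3_upto43 perm_piece_3_44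
theorem perm_g3_upto45 : TraceFix ptabs.perm tabs.word 8 1 58374 :=
  traceFix_extendF _ _ letSel perm_eq 8 1 57105 1269 58374 rfl perm_g3_upto44 perm_piece_3_45
theorem perm_g3_upto46 : TraceFix ptabs.perm tabs.word 8 1 58520 :=
  traceFix_extendF _ _ letSel perm_eq 8 1 58374 146 58520 rfl perm_g3_upto45 perm_piece_3_46
theorem perm_g3 : ∀ r, 8 ≤ r → r < 8 + 1 → relOk ptabs (tabs.word r) 0 ptabs.n = true :=
  relOk_of_traceFix ptabs tabs.word 8 1 perm_g3_upto46
theorem perm_g4_upto0 : TraceFix ptabs.perm tabs.word 9 1 1307 :=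
  traceFix_extendF _ _ letSel perm_eq 9 1 0 1307 1307 rfl (traceFix_zero _ _ 9 1) perm_piece_4_0
theorem perm_g4_upto1 : TraceFix ptabs.perm tabs.word 9 1 2614 :=
  traceFix_extendF _ _ letSel perm_eq 9 1 1307 1307 2614 rfl perm_g4_upto0 perm_piece_4_1
theorem perm_g4_upto2 : TraceFix ptabs.perm tabs.word 9 1 3921 :=
  traceFix_extendF _ _ letSel perm_eq 9 1 2614 1307 3921 rfl perm_g4_upto1 perm_piece_4_2
theorem perm_g4_upto3 : TraceFix ptabs.perm tabs.word 9 1 5228 :=
  traceFix_extendF _ _ letSel perm_eq 9 1 3921 1307 5228 rfl perm_g4_upto2 perm_piece_4_3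
theorem perm_g4_upto4 : TraceFix ptabs.perm tabs.word 9 1 6535 :=
  traceFix_extendF _ _ letSel perm_eq 9 1 5228 1307 6535 rfl perm_g4_upto3 perm_piece_4_4
theorem perm_g4_upto5 : TraceFix ptabs.perm tabs.word 9 1 7842 :=
  traceFix_extendF _ _ letSel perm_eq 9 1 6535 1307 7842 rfl perm_g4_upto4 perm_piece_4_5
theorem perm_g4_upto6 : TraceFix ptabs.perm tabs.word 9 1 9149 :=
  traceFix_extendF _ _ letSel perm_eq 9 1 7842 1307 9149 rfl perm_g4_upto5 perm_piece_4_6
theorem perm_g4_upto7 : TraceFix ptabs.perm tabs.word 9 1 10456 :=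
  traceFix_extendF _ _ letSel perm_eq 9 1 9149 1307 10456 rfl perm_g4_upto6 perm_piece_4_7
theorem perm_g4_upto8 : TraceFix ptabs.perm tabs.word 9 1 11763 :=
  traceFix_extendF _ _ letSel perm_eq 9 1 10456 1307 11763 rfl perm_g4_upto7 perm_piece_4_8
theorem perm_g4_upto9 : TraceFix ptabs.perm tabs.word 9 1 13070 :=
  traceFix_extendF _ _ letSel perm_eq 9 1 11763 1307 13070 rfl perm_g4_upto8 perm_piece_4_9
theorem perm_g4_upto10 : TraceFix ptabs.perm tabs.word 9 1 14377 :=
  traceFix_extendF _ _ letSel perm_eq 9 1 13070 1307 14377 rfl perm_g4_upto9 perm_piece_4_10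
theorem perm_g4_upto11 : TraceFix ptabs.perm tabs.word 9 1 15684 :=
  traceFix_extendF _ _ letSel perm_eq 9 1 14377 1307 15684 rfl perm_g4_upto10 perm_piece_4_11
theorem perm_g4_upto12 : TraceFix ptabs.perm tabs.word 9 1 16991 :=
  traceFix_extendF _ _ letSel perm_eq 9 1 15684 1307 16991 rfl perm_g4_upto11 perm_piece_4_12
theorem perm_g4_upto13 : TraceFix ptabs.perm tabs.word 9 1 18298 :=
  traceFix_extendF _ _ letSel perm_eq 9 1 16991 1307 18298 rfl perm_g4_upto12 perm_piece_4_13
theorem perm_g4_upto14 : TraceFix ptabs.perm tabs.word 9 1 19605 :=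
  traceFix_extendF _ _ letSel perm_eq 9 1 18298 1307 19605 rfl perm_g4_upto13 perm_piece_4_14
theorem perm_g4_upto15 : TraceFix ptabs.perm tabs.word 9 1 20912 :=
  traceFix_extendF _ _ letSel perm_eq 9 1 19605 1307 20912 rfl perm_g4_upto14 perm_piece_4_15
theorem perm_g4_upto16 : TraceFix ptabs.perm tabs.word 9 1 22219 :=
  traceFix_extendF _ _ letSel perm_eq 9 1 20912 1307 22219 rfl perm_g4_upto15 perm_piece_4_16
theorem perm_g4_upto17 : TraceFix ptabs.perm tabs.word 9 1 23526 :=
  traceFix_extendF _ _ letSel perm_eq 9 1 22219 1307 23526 rfl perm_g4_upto16 perm_piece_4_17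
theorem perm_g4_upto18 : TraceFix ptabs.perm tabs.word 9 1 24833 :=
  traceFix_extendF _ _ letSel perm_eq 9 1 23526 1307 24833 rfl perm_g4_upto17 perm_piece_4_18
theorem perm_g4_upto19 : TraceFix ptabs.perm tabs.word 9 1 26140 :=
  traceFix_extendF _ _ letSel perm_eq 9 1 24833 1307 26140 rfl perm_g4_upto18 perm_piece_4_19
theorem perm_g4_upto20 : TraceFix ptabs.perm tabs.word 9 1 27447 :=
  traceFix_extendF _ _ letSel perm_eq 9 1 26140 1307 27447 rfl perm_g4_upto19 perm_piece_4_20
theorem perm_g4_upto21 : TraceFix ptabs.perm tabs.word 9 1 28754 :=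
  traceFix_extendF _ _ letSel perm_eq 9 1 27447 1307 28754 rfl perm_g4_upto20 perm_piece_4_21
theorem perm_g4_upto22 : TraceFix ptabs.perm tabs.word 9 1 30061 :=
  traceFix_extendF _ _ letSel perm_eq 9 1 28754 1307 30061 rfl perm_g4_upto21 perm_piece_4_22
theorem perm_g4_upto23 : TraceFix ptabs.perm tabs.word 9 1 31368 :=
  traceFix_extendF _ _ letSel perm_eq 9 1 30061 1307 31368 rfl perm_g4_upto22 perm_piece_4_23
theorem perm_g4_upto24 : TraceFix ptabs.perm tabs.word 9 1 32675 :=
  traceFix_extendF _ _ letSel perm_eq 9 1 31368 1307 32675 rfl perm_g4_upto23 perm_piece_4_24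
theorem perm_g4_upto25 : TraceFix ptabs.perm tabs.word 9 1 33982 :=
  traceFix_extendF _ _ letSel perm_eq 9 1 32675 1307 33982 rfl perm_g4_upto24 perm_piece_4_25
theorem perm_g4_upto26 : TraceFix ptabs.perm tabs.word 9 1 35289 :=
  traceFix_extendF _ _ letSel perm_eq 9 1 33982 1307 35289 rfl perm_g4_upto25 perm_piece_4_26
theorem perm_g4_upto27 : TraceFix ptabs.perm tabs.word 9 1 36596 :=
  traceFix_extendF _ _ letSel perm_eq 9 1 35289 1307 36596 rfl perm_g4_upto26 perm_piece_4_27
theorem perm_g4_upto28 : TraceFix ptabs.perm tabs.word 9 1 37903 :=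
  traceFix_extendF _ _ letSel perm_eq 9 1 36596 1307 37903 rfl perm_g4_upto27 perm_piece_4_28
theorem perm_g4_upto29 : TraceFix ptabs.perm tabs.word 9 1 39210 :=
  traceFix_extendF _ _ letSel perm_eq 9 1 37903 1307 39210 rfl perm_g4_upto28 perm_piece_4_29
theorem perm_g4_upto30 : TraceFix ptabs.perm tabs.word 9 1 40517 :=
  traceFix_extendF _ _ letSel perm_eq 9 1 39210 1307 40517 rfl perm_g4_upto29 perm_piece_4_30
theorem perm_g4_upto31 : TraceFix ptabs.perm tabs.word 9 1 41824 :=
  traceFix_extendF _ _ letSel perm_eq 9 1 40517 1307 41824 rfl perm_g4_upto30 perm_piece_4_31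
theorem perm_g4_upto32 : TraceFix ptabs.perm tabs.word 9 1 43131 :=
  traceFix_extendF _ _ letSel perm_eq 9 1 41824 1307 43131 rfl perm_g4_upto31 perm_piece_4_32
theorem perm_g4_upto33 : TraceFix ptabs.perm tabs.word 9 1 44438 :=
  traceFix_extendF _ _ letSel perm_eq 9 1 43131 1307 44438 rfl perm_g4_upto32 perm_piece_4_33
theorem perm_g4_upto34 : TraceFix ptabs.perm tabs.word 9 1 45745 :=
  traceFix_extendF _ _ letSel perm_eq 9 1 44438 1307 45745 rfl perm_g4_upto33 perm_piece_4_34
theorem perm_g4_upto35 : TraceFix ptabs.perm tabs.word 9 1 47052 :=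
  traceFix_extendF _ _ letSel perm_eq 9 1 45745 1307 47052 rfl perm_g4_upto34 perm_piece_4_35
theorem perm_g4_upto36 : TraceFix ptabs.perm tabs.word 9 1 48359 :=
  traceFix_extendF _ _ letSel perm_eq 9 1 47052 1307 48359 rfl perm_g4_upto35 perm_piece_4_36
theorem perm_g4_upto37 : TraceFix ptabs.perm tabs.word 9 1 49666 :=
  traceFix_extendF _ _ letSel perm_eq 9 1 48359 1307 49666 rfl perm_g4_upto36 perm_piece_4_37
theorem perm_g4_upto38 : TraceFix ptabs.perm tabs.word 9 1 50973 :=
  traceFix_extendF _ _ letSel perm_eq 9 1 49666 1307 50973 rfl perm_g4_upto37 perm_piece_4_38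
theorem perm_g4_upto39 : TraceFix ptabs.perm tabs.word 9 1 52280 :=
  traceFix_extendF _ _ letSel perm_eq 9 1 50973 1307 52280 rfl perm_g4_upto38 perm_piece_4_39
theorem perm_g4_upto40 : TraceFix ptabs.perm tabs.word 9 1 53587 :=
  traceFix_extendF _ _ letSel perm_eq 9 1 52280 1307 53587 rfl perm_g4_upto39 perm_piece_4_40
theorem perm_g4_upto41 : TraceFix ptabs.perm tabs.word 9 1 54894 :=
  traceFix_extendF _ _ letSel perm_eq 9 1 53587 1307 54894 rfl perm_g4_upto40 perm_piece_4_41
theorem perm_g4_upto42 : TraceFix ptabs.perm tabs.word 9 1 56201 :=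
  traceFix_extendF _ _ letSel perm_eq 9 1 54894 1307 56201 rfl perm_g4_upto41 perm_piece_4_42
theorem perm_g4_upto43 : TraceFix ptabs.perm tabs.word 9 1 57508 :=
  traceFix_extendF _ _ letSel perm_eq 9 1 56201 1307 57508 rfl perm_g4_upto42 perm_piece_4_43
theorem perm_g4_upto44 : TraceFix ptabs.perm tabs.word 9 1 58520 :=
  traceFix_extendF _ _ letSel perm_eq 9 1 57508 1012 58520 rfl perm_g4_upto43 perm_piece_4_44
theorem perm_g4 : ∀ r, 9 ≤ r → r < 9 + 1 → relOk ptabs (tabs.word r) 0 ptabs.n = true :=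
  relOk_of_traceFix ptabs tabs.word 9 1 perm_g4_upto44
theorem perm_all : ∀ r, 1 ≤ r → r < 10 → relOk ptabs (tabs.word r) 0 ptabs.n = true := by
  intro r h1 h2
  by_cases c0 : r < 6
  · exact perm_g0 r (by omega) (by omega)
  by_cases c1 : r < 7
  · exact perm_g1 r (by omega) (by omega)
  by_cases c2 : r < 8
  · exact perm_g2 r (by omega) (by omega)
  by_cases c3 : r < 9
  · exact perm_g3 r (by omega) (by omega)
  by_cases c4 : r < 10
  · exact perm_g4 r (by omega) (by omega)
  omega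
theorem subfix_all : ∀ r, r < 1 → relOk ptabs (tabs.word r) 0 1 = true := allLt_sound _ _ subfix_ok
end Cfsg.Agent.Helper28.J1A
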