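import Cfsg.Agent.Helper28.J1A.Data
set_option autoImplicit false
set_option maxRecDepth 1000000
namespace Cfsg.Agent.Helper28.J1A
open Cfsg.Agent.Helper28
theorem perm_piece_3_44 : permPieceF tabs.word letSel 8 1 55836 1269 = true := by decide +kernel
theorem perm_piece_3_45 : permPieceF tabs.word letSel 8 1 57105 1269 = true := by decide +kernel
theorem perm_piece_3_46 : permPieceF tabs.word letSel 8 1 58374 146 = true := by decide +kernel
theorem perm_piece_4_0 : permPieceF tabs.word letSel 9 1 0 1307 = true := by decide +kernel
theorem perm_piece_4_1 : permPieceF tabs.word letSel 9 1 1307 1307 = true := by decide +kernel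
theorem perm_piece_4_2 : permPieceF tabs.word letSel 9 1 2614 1307 = true := by decide +kernel
theorem perm_piece_4_3 : permPieceF tabs.word letSel 9 1 3921 1307 = true := by decide +kernel
theorem perm_piece_4_4 : permPieceF tabs.word letSel 9 1 5228 1307 = true := by decide +kernel
theorem perm_piece_4_5 : permPieceF tabs.word letSel 9 1 6535 1307 = true := by decide +kernel
end Cfsg.Agent.Helper28.J1A
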